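import Groth.Agent.Lib.RelCyc15.TensorFields
import Groth.Agent.Lib.FibDim14.Res
import Groth.Agent.Lib.DivDesc12.Fibre
import Groth.Prelude.Def_Cyc
import Mathlib.AlgebraicGeometry.Morphisms.UniversallyInjective
import Mathlib.AlgebraicGeometry.Morphisms.Flat
import Mathlib.FieldTheory.IsPerfectClosure

/-!
# Base change of cycles along purely inseparable field extensions
-/

universe u

open CategoryTheory Limits AlgebraicGeometry TensorProduct

noncomputable section

namespace Groth.Agent.RelCyc15

open Groth.Agent.FibDim14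

variable (k K : Type u) [Field k] [Field K] [Algebra k K]

local notation "σK" => Spec.map (CommRingCat.ofHom (algebraMap k K))

instance universallyInjective_spec [IsPurelyInseparable k K] : UniversallyInjective σK := by
  refine ((tfae_universallyInjective σK).out 1 0).mp ?_
  intro L _ g₁ g₂ hg
  obtain ⟨φ₁, rfl⟩ := Spec.map_surjective g₁
  obtain ⟨φ₂, rfl⟩ := Spec.map_surjective g₂
  simp only [← Spec.map_comp] at hg
  have h := congrArg CommRingCat.Hom.hom (Spec.map_injective hg)
  congr 1
  exact CommRingCat.hom_ext (IsPurelyInseparable.injective_comp_algebraMap k K L h)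

instance surjective_spec : Surjective σK :=
  ⟨fun x => ⟨(default : PrimeSpectrum K), Subsingleton.elim (α := PrimeSpectrum k) _ _⟩⟩

/-- A universally injective morphism has algebraic residue extensions. -/
theorem rdeg_eq_zero_of_universallyInjective {X Y : Scheme.{u}} (g : X ⟶ Y) [UniversallyInjective g]
    (x : X) : rdeg g x = 0 := by
  letI := (g.residueFieldMap x).hom.toAlgebra
  have h := ((tfae_universallyInjective g).out 0 2 (a := UniversallyInjective g)).mp inferInstance
  haveI : IsPurelyInseparable (Y.residueField (g x)) (X.residueField x) := h.2 x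
  exact trdeg_eq_zero (R := Y.residueField (g x)) (A := X.residueField x)

theorem delta_fst_eq [IsPurelyInseparable k K] {X : Scheme.{u}} (f : X ⟶ Spec (CommRingCat.of k))
    (δ : X → ℤ) (hδ : Cyc.DeltaCompat f δ (fun _ => 0)) (δ' : ↥(pullback f σK) → ℤ)
    (hδ' : Cyc.DeltaCompat (pullback.snd f σK) δ' (fun _ => 0)) (y : ↥(pullback f σK)) :
    δ' y = δ (pullback.fst f σK y) := by
  haveI : UniversallyInjective (pullback.fst f σK) := MorphismProperty.pullback_fst _ _ inferInstance
  obtain ⟨m, hm, hm'⟩ := hδ (pullback.fst f σK y)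
  obtain ⟨n, hn, hn'⟩ := hδ' y
  have h1 := rdeg_comp (pullback.fst f σK) f y
  have h2 := rdeg_comp (pullback.snd f σK) σK y
  rw [rdeg_eq_zero_of_universallyInjective (pullback.fst f σK) y, add_zero, pullback.condition, h2,
    rdeg_eq_zero_of_universallyInjective σK, zero_add] at h1
  have h3 : ((n : Cardinal.{u}) = (m : Cardinal.{u})) := by
    rw [← hn, ← hm]; exact h1
  rw [hn', hm', Nat.cast_inj.mp h3]

theorem fiberι_apply {X Y : Scheme.{u}} (g : X ⟶ Y) {y : Y} (z : g.fiber y) :
    g (g.fiberι y z) = y := by
  have : g.fiberι y z ∈ Set.range (g.fiberι y) := ⟨z, rfl⟩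
  rwa [g.range_fiberι] at this

theorem map_σ_eq {X Y : Scheme.{u}} (g : X ⟶ Y) (x : X) {y : Y} (hx : g x = y) (h : g x ⤳ y) :
    Ideal.map (DivDesc12.σ g x h) (IsLocalRing.maximalIdeal (Y.presheaf.stalk y)) =
      Ideal.map (g.stalkMap x).hom (IsLocalRing.maximalIdeal (Y.presheaf.stalk (g x))) := by
  subst hx
  congr 1
  ext r
  exact congrArg (g.stalkMap x) (DivDesc12.sp_self h r)

/-- The local ring of a fibre is the quotient of the local ring by the maximal ideal of the image. -/
theorem length_fiber_stalk {X Y : Scheme.{u}} (g : X ⟶ Y) {y : Y} (z : g.fiber y) :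
    Module.length ((g.fiber y).presheaf.stalk z) ((g.fiber y).presheaf.stalk z) =
      Module.length (X.presheaf.stalk (g.fiberι y z))
        (X.presheaf.stalk (g.fiberι y z) ⧸ Ideal.map (g.stalkMap (g.fiberι y z)).hom
          (IsLocalRing.maximalIdeal (Y.presheaf.stalk (g (g.fiberι y z))))) := by
  set I := Ideal.map (g.stalkMap (g.fiberι y z)).hom
    (IsLocalRing.maximalIdeal (Y.presheaf.stalk (g (g.fiberι y z)))) with hI
  have hx := fiberι_apply g z
  have hker : RingHom.ker ((g.fiberι y).stalkMap z).hom = I := by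
    rw [hI, ← map_σ_eq g (g.fiberι y z) hx (specializes_of_eq hx)]
    ext b
    exact DivDesc12.stalkMap_fiberι_eq_zero_iff g (g.fiberι y z) hx (specializes_of_eq hx) z rfl b
  rw [← length_self_eq_of_equiv ((Ideal.quotEquivOfEq hker.symm).trans
    (RingHom.quotientKerEquivOfSurjective ((g.fiberι y).stalkMap_surjective z)))]
  exact (Module.length_eq_of_surjective (M := X.presheaf.stalk (g.fiberι y z) ⧸ I)
    (R := X.presheaf.stalk (g.fiberι y z) ⧸ I) (S := X.presheaf.stalk (g.fiberι y z))
    Ideal.Quotient.mk_surjective).symm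

theorem exists_length_fibre_eq_pow (p : ℕ) [ExpChar k p] [IsPurelyInseparable k K] {X : Scheme.{u}}
    (f : X ⟶ Spec (CommRingCat.of k)) [LocallyOfFiniteType f] (y : ↥(pullback f σK)) :
    ∃ n : ℕ, (Module.length ((pullback f σK).presheaf.stalk y)
      ((pullback f σK).presheaf.stalk y ⧸ Ideal.map ((pullback.fst f σK).stalkMap y).hom
        (IsLocalRing.maximalIdeal (X.presheaf.stalk (pullback.fst f σK y))))).toNat = p ^ n := by
  set g := pullback.fst f σK
  haveI : UniversallyInjective g := MorphismProperty.pullback_fst _ _ inferInstance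
  let x := g y
  let z : g.fiber x := g.asFiber y
  have hz : g.fiberι x z = y := g.fiberι_asFiber y
  let ψ : CommRingCat.of k ⟶ X.residueField x :=
    (Scheme.ΓSpecIso (CommRingCat.of k)).inv ≫
      (Spec (CommRingCat.of k)).presheaf.germ ⊤ (f x) trivial ≫ f.stalkMap x ≫ X.residue x
  have hψ : Spec.map ψ = X.fromSpecResidueField x ≫ f := by
    simp only [Scheme.fromSpecResidueField, Category.assoc, ← Scheme.SpecMap_stalkMap_fromSpecStalk,
      Spec.fromSpecStalk_eq, ← Spec.map_comp]
    rfl
  have hψft : ψ.hom.EssFiniteType := by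
    refine RingHom.EssFiniteType.comp
      (RingHom.FiniteType.of_surjective _
        (ConcreteCategory.bijective_of_isIso (Scheme.ΓSpecIso (CommRingCat.of k)).inv).2).essFiniteType
      (RingHom.EssFiniteType.comp ?_ (RingHom.EssFiniteType.comp (LocallyOfFiniteType.stalkMap f x)
        (RingHom.FiniteType.of_surjective _ (X.residue_surjective x)).essFiniteType))
    have hU := isAffineOpen_top (Spec (CommRingCat.of k))
    letI := (Spec (CommRingCat.of k)).presheaf.algebra_section_stalk (U := ⊤) ⟨f x, trivial⟩
    haveI := hU.isLocalization_stalk ⟨f x, trivial⟩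
    exact RingHom.essFiniteType_algebraMap.2
      (Algebra.EssFiniteType.of_isLocalization _ (hU.primeIdealOf ⟨f x, trivial⟩).asIdeal.primeCompl)
  letI : Algebra k (X.residueField x) := ψ.hom.toAlgebra
  haveI : Algebra.EssFiniteType k (X.residueField x) := RingHom.essFiniteType_algebraMap.1 hψft
  haveI : Algebra.EssFiniteType k ↥(⊤ : IntermediateField k (X.residueField x)) :=
    Algebra.EssFiniteType.of_surjective (IntermediateField.topEquiv (F := k) (E := X.residueField x)).symm.toAlgHom
      (IntermediateField.topEquiv (F := k) (E := X.residueField x)).symm.surjective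
  have hL : (⊤ : IntermediateField k (X.residueField x)).FG := IntermediateField.essFiniteType_iff.mp ‹_›
  let e : g.fiber x ≅ Spec (CommRingCat.of (X.residueField x ⊗[k] K)) :=
    pullbackSymmetry _ _ ≪≫ pullbackRightPullbackFstIso f σK (X.fromSpecResidueField x) ≪≫
      pullback.congrHom hψ.symm rfl ≪≫ pullbackSpecIso k (X.residueField x) K
  let e' : g.fiber x ≅ Spec (CommRingCat.of (K ⊗[k] X.residueField x)) :=
    e ≪≫ Scheme.Spec.mapIso (Algebra.TensorProduct.comm k K (X.residueField x)).toRingEquiv.toCommRingCatIso.op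
  let w := e'.hom z
  haveI : Subsingleton (g.fiber x) := ⟨fun a b => (g.fiberι x).isEmbedding.injective (g.injective (by
    rw [fiberι_apply g a, fiberι_apply g b]))⟩
  have hq : w.asIdeal ∈ minimalPrimes (K ⊗[k] X.residueField x) := by
    refine ⟨⟨w.isPrime, bot_le⟩, fun P hP _ => ?_⟩
    let P' : PrimeSpectrum (K ⊗[k] X.residueField x) := ⟨P, hP.1⟩
    have h0 : P' = w := by
      have h1 : e'.inv P' = e'.inv w := Subsingleton.elim _ _
      exact (e'.schemeIsoToHomeo.apply_symm_apply P').symm.trans ((congrArg e'.hom h1).trans (e'.schemeIsoToHomeo.apply_symm_apply w))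
    exact h0 ▸ le_rfl
  obtain ⟨n, hn⟩ := exists_length_localization_eq_pow k K (X.residueField x) hL p w.asIdeal hq
  refine ⟨n, ?_⟩
  have h1 := length_fiber_stalk g z
  have h2 : Module.length ((g.fiber x).presheaf.stalk z) ((g.fiber x).presheaf.stalk z) =
      Module.length (Localization.AtPrime w.asIdeal) (Localization.AtPrime w.asIdeal) := by
    refine (length_self_eq_of_equiv ?_).symm
    exact ((Spec.stalkIso _ w).symm ≪≫ asIso (e'.hom.stalkMap z)).commRingCatIsoToRingEquiv
  rw [hn] at h2
  rw [h2] at h1
  rw [hz] at h1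
  change (Module.length _ _).toNat = p ^ n
  rw [← h1, ENat.toNat_coe]

end Groth.Agent.RelCyc15
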