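import Mathlib.RingTheory.LocalRing.Length
import Mathlib.RingTheory.Unramified.LocalRing
import Mathlib.RingTheory.Spectrum.Prime.Homeomorph
import Mathlib.RingTheory.Localization.BaseChange
import Mathlib.RingTheory.LocalProperties.Reduced
import Mathlib.RingTheory.Ideal.GoingDown
import Mathlib.RingTheory.TensorProduct.MvPolynomial
import Mathlib.RingTheory.AlgebraicIndependent.Adjoin
import Mathlib.RingTheory.AlgebraicIndependent.TranscendenceBasis
import Mathlib.FieldTheory.PurelyInseparable.PerfectClosure
import Mathlib.FieldTheory.IntermediateField.Adjoin.Algebra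
import Mathlib.RingTheory.Artinian.Module
import Mathlib.RingTheory.KrullDimension.Zero

/-!
# Lengths of localisations of tensor products of fields
-/

universe u

open TensorProduct

noncomputable section

namespace Groth.Agent.RelCyc15

/-- Length of a ring over itself is invariant under isomorphism. -/
theorem length_self_eq_of_equiv {R S : Type u} [CommRing R] [CommRing S] (e : R ≃+* S) :
    Module.length R R = Module.length S S := by
  letI := e.toRingHom.toAlgebra
  rw [← Module.length_eq_of_surjective (M := S) (R := S) (S := R) e.surjective]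
  exact (LinearEquiv.ofBijective (Algebra.linearMap R S) e.bijective).length_eq

/-- The length of a finite local algebra over a field divides its dimension. -/
theorem length_toNat_dvd_finrank (E R : Type u) [Field E] [CommRing R] [Algebra E R]
    [IsLocalRing R] [Module.Finite E R] :
    Module.length R R ≠ ⊤ ∧ (Module.length R R).toNat ∣ Module.finrank E R := by
  haveI : IsArtinianRing R := isArtinian_of_tower E inferInstance
  haveI : IsLocalHom (algebraMap E R) :=
    ⟨fun a ha => isUnit_iff_ne_zero.2 fun h => ha.ne_zero (by rw [h, map_zero])⟩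
  haveI : IsNoetherianRing R := isNoetherian_of_tower E inferInstance
  refine ⟨Module.length_ne_top, ?_⟩
  have h := IsLocalRing.length_restrictScalars E R (M := R)
  rw [Module.length_eq_finrank E R] at h
  exact ⟨_, by
    have := congrArg ENat.toNat h
    rw [ENat.toNat_coe, ENat.toNat_mul] at this
    exact this⟩

theorem isField_localization_of_minimalPrimes {R : Type u} [CommRing R] [IsReduced R]
    (p : Ideal R) [p.IsPrime] (hp : p ∈ minimalPrimes R) :
    IsField (Localization.AtPrime p) := by
  haveI : Ring.KrullDimLE 0 (Localization.AtPrime p) :=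
    .of_isLocalization _ hp _
  exact Ring.KrullDimLE.isField_of_isReduced

theorem comap_mem_minimalPrimes_of_flat {R S : Type u} [CommRing R] [CommRing S] [Algebra R S]
    [Module.Flat R S] (q : Ideal S) [q.IsPrime] (hq : q ∈ minimalPrimes S) :
    q.comap (algebraMap R S) ∈ minimalPrimes R := by
  refine ⟨⟨inferInstance, bot_le⟩, fun p hp hle => ?_⟩
  haveI := hp.1
  haveI : q.LiesOver (q.comap (algebraMap R S)) := ⟨rfl⟩
  obtain ⟨Q, hQq, hQ, hQp⟩ := Ideal.exists_ideal_le_liesOver_of_le (R := R) q
    (p := p) (q := q.comap (algebraMap R S)) hle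
  have : q ≤ Q := hq.2 ⟨hQ, bot_le⟩ hQq
  rw [hQp.over]
  exact Ideal.comap_mono this

/-- A prime of an algebra formally unramified over a reduced ring, lying over a minimal prime,
has a field as local ring. -/
theorem isField_localization_of_unramified {B D : Type u} [CommRing B] [IsReduced B] [CommRing D]
    [Algebra B D] [Algebra.FormallyUnramified B D] [Algebra.EssFiniteType B D]
    (q : Ideal D) [q.IsPrime] (hq : q.comap (algebraMap B D) ∈ minimalPrimes B) :
    IsField (Localization.AtPrime q) := by
  let p := q.comap (algebraMap B D)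
  have hp : IsField (Localization.AtPrime p) := isField_localization_of_minimalPrimes p hq
  haveI : q.LiesOver p := ⟨rfl⟩
  letI := Localization.AtPrime.algebraOfLiesOver p q
  haveI := Algebra.FormallyUnramified.comp B D (Localization.AtPrime q)
  haveI : Algebra.FormallyUnramified (Localization.AtPrime p) (Localization.AtPrime q) :=
    Algebra.FormallyUnramified.of_restrictScalars B _ _
  haveI : Algebra.EssFiniteType B (Localization.AtPrime q) := Algebra.EssFiniteType.comp B D _
  haveI : Algebra.EssFiniteType (Localization.AtPrime p) (Localization.AtPrime q) :=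
    Algebra.EssFiniteType.of_comp B _ _
  rw [IsLocalRing.isField_iff_maximalIdeal_eq] at hp ⊢
  rw [← Algebra.FormallyUnramified.map_maximalIdeal (R := Localization.AtPrime p)
    (S := Localization.AtPrime q), hp, Ideal.map_bot]

variable (Ls L : Type u) [Field Ls] [Field L] [Algebra Ls L] [IsPurelyInseparable Ls L]
  (D : Type u) [CommRing D] [Algebra Ls D]

theorem exists_pow_mem_range_includeRight (x : L ⊗[Ls] D) :
    ∃ n > 0, x ^ n ∈ (Algebra.TensorProduct.includeRight (R := Ls) (A := L) (B := D)).toRingHom.range := by
  obtain ⟨n, hn, y, hy⟩ :=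
    IsPurelyInseparable.exists_pow_mem_range_tensorProduct (R := D)
      (Algebra.TensorProduct.comm Ls L D x)
  refine ⟨n, hn, y, (Algebra.TensorProduct.comm Ls L D).injective ?_⟩
  rw [map_pow, ← hy]
  simp

attribute [local instance] Algebra.TensorProduct.rightAlgebra in
/-- The comparison of the two module structures on a base change. -/
def commLinearEquiv : L ⊗[Ls] D ≃ₗ[D] D ⊗[Ls] L :=
  { (Algebra.TensorProduct.comm Ls L D).toAddEquiv with
    map_smul' := fun d x => by
      change Algebra.TensorProduct.comm Ls L D (d • x) = d • Algebra.TensorProduct.comm Ls L D x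
      rw [Algebra.smul_def, Algebra.smul_def, map_mul]
      rfl }

variable {L D}

theorem le_of_comap_le {P Q : Ideal (L ⊗[Ls] D)} [P.IsPrime] [Q.IsPrime]
    (h : P.comap (Algebra.TensorProduct.includeRight (R := Ls) (A := L)).toRingHom ≤
      Q.comap (Algebra.TensorProduct.includeRight (R := Ls) (A := L)).toRingHom) : P ≤ Q := by
  intro x hx
  obtain ⟨n, hn, y, hy⟩ := exists_pow_mem_range_includeRight Ls L D x
  have hP : y ∈ P.comap (Algebra.TensorProduct.includeRight (R := Ls) (A := L)).toRingHom := by
    rw [Ideal.mem_comap, hy]; exact P.pow_mem_of_mem hx n hn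
  have hQ := h hP
  rw [Ideal.mem_comap, hy] at hQ
  exact ‹Q.IsPrime›.mem_of_pow_mem n hQ

theorem comap_includeRight_mem_minimalPrimes (q : Ideal (L ⊗[Ls] D)) [q.IsPrime]
    (hq : q ∈ minimalPrimes (L ⊗[Ls] D)) :
    q.comap (Algebra.TensorProduct.includeRight (R := Ls) (A := L)).toRingHom ∈ minimalPrimes D := by
  letI := Algebra.TensorProduct.rightAlgebra (R := Ls) (A := L) (B := D)
  haveI : Module.Flat D (L ⊗[Ls] D) :=
    Module.Flat.of_linearEquiv (M := D ⊗[Ls] L) (commLinearEquiv Ls L D)
  exact comap_mem_minimalPrimes_of_flat (R := D) q hq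

/-- If `L / Ls` is finite purely inseparable and the local ring of `D` under a prime `q` of
`L ⊗ D` is a field, the length at `q` divides `[L : Ls]`. -/
theorem length_localization_dvd [Module.Finite Ls L] (q : Ideal (L ⊗[Ls] D)) [q.IsPrime]
    (hD : IsField (Localization.AtPrime
      (q.comap (Algebra.TensorProduct.includeRight (R := Ls) (A := L)).toRingHom))) :
    Module.length (Localization.AtPrime q) (Localization.AtPrime q) ≠ ⊤ ∧
      (Module.length (Localization.AtPrime q) (Localization.AtPrime q)).toNat ∣
        Module.finrank Ls L := by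
  set ι : D →+* L ⊗[Ls] D := (Algebra.TensorProduct.includeRight (R := Ls) (A := L)).toRingHom
  let qD := q.comap ι
  let E := Localization.AtPrime qD
  letI : Field E := hD.toField
  let φ : L ⊗[Ls] D →+* L ⊗[Ls] E :=
    (Algebra.TensorProduct.map (AlgHom.id L L) (IsScalarTower.toAlgHom Ls D E)).toRingHom
  letI : Algebra (L ⊗[Ls] D) (L ⊗[Ls] E) := φ.toAlgebra
  haveI : IsScalarTower L (L ⊗[Ls] D) (L ⊗[Ls] E) :=
    .of_algebraMap_eq fun l => by simp [RingHom.algebraMap_toAlgebra, φ]
  haveI hloc : IsLocalization (qD.primeCompl.map ι) (L ⊗[Ls] E) :=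
    IsLocalization.tensorProduct_tensorProduct_right Ls L qD.primeCompl E
      (by ext; simp [RingHom.algebraMap_toAlgebra, φ])
  letI := Algebra.TensorProduct.rightAlgebra (R := Ls) (A := L) (B := E)
  have hnt : Nontrivial (L ⊗[Ls] E) :=
    Algebra.TensorProduct.nontrivial_of_algebraMap_injective_of_flat_left Ls L E
      (algebraMap Ls E).injective
  have key : ∀ x ∈ q.primeCompl, IsUnit (φ x) := by
    intro x hx
    by_contra hu
    obtain ⟨M, hM, hxM⟩ := exists_max_ideal_of_mem_nonunits hu
    have hMφ : (M.comap φ).comap ι ≤ qD := by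
      intro d hd
      by_contra hdq
      exact hM.isPrime.ne_top (M.eq_top_of_isUnit_mem hd
        (IsLocalization.map_units (M := qD.primeCompl.map ι) (L ⊗[Ls] E)
          ⟨ι d, Submonoid.mem_map_of_mem _ hdq⟩))
    exact hx (le_of_comap_le Ls (P := M.comap φ) (Q := q) hMφ hxM)
  haveI : IsLocalization q.primeCompl (L ⊗[Ls] E) := by
    refine IsLocalization.of_le (qD.primeCompl.map ι) q.primeCompl ?_ key
    rintro _ ⟨d, hd, rfl⟩
    exact hd
  let e : Localization.AtPrime q ≃+* L ⊗[Ls] E :=
    (IsLocalization.algEquiv q.primeCompl (Localization.AtPrime q) (L ⊗[Ls] E)).toRingEquiv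
  haveI : IsLocalRing (L ⊗[Ls] E) := IsLocalization.AtPrime.isLocalRing _ q
  rw [length_self_eq_of_equiv e]
  let eLE : L ⊗[Ls] E ≃ₗ[E] E ⊗[Ls] L := commLinearEquiv Ls L E
  haveI : Module.Finite E (L ⊗[Ls] E) := Module.Finite.equiv eLE.symm
  have := length_toNat_dvd_finrank E (L ⊗[Ls] E)
  rwa [eLE.finrank_eq, Module.finrank_baseChange] at this

end Groth.Agent.RelCyc15
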