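import Groth.Agent.Lib.RelCyc15.Length
import Mathlib.RingTheory.Unramified.Field
import Mathlib.RingTheory.Etale.Field
import Mathlib.FieldTheory.SeparableClosure

/-!
# Lengths of tensor products of fields at minimal primes are powers of the exponential characteristic
-/

universe u

open TensorProduct

noncomputable section

namespace Groth.Agent.RelCyc15

theorem isReduced_tensor_adjoin_algebraicIndependent (k K : Type u) [Field k] [Field K] [Algebra k K]
    {L : Type u} [Field L] [Algebra k L] {ι : Type u} {x : ι → L} (hx : AlgebraicIndependent k x) :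
    IsReduced (↥(IntermediateField.adjoin k (Set.range x)) ⊗[k] K) := by
  let P := MvPolynomial ι k
  let F := FractionRing P
  letI : Algebra (K ⊗[k] P) (K ⊗[k] F) :=
    (Algebra.TensorProduct.map (AlgHom.id K K) (IsScalarTower.toAlgHom k P F)).toAlgebra
  haveI : IsScalarTower K (K ⊗[k] P) (K ⊗[k] F) :=
    IsScalarTower.of_algebraMap_eq (R := K) (S := K ⊗[k] P) (A := K ⊗[k] F) fun a => by
      simp [RingHom.algebraMap_toAlgebra]
  haveI := IsLocalization.tensorProduct_tensorProduct_right k K (nonZeroDivisors P) F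
    (by ext <;> simp [RingHom.algebraMap_toAlgebra])
  haveI : IsReduced (K ⊗[k] P) :=
    isReduced_of_injective (MvPolynomial.algebraTensorAlgEquiv k K).toRingHom
      (MvPolynomial.algebraTensorAlgEquiv k K).injective
  haveI : IsReduced (K ⊗[k] F) :=
    isReduced_localizationPreserves
      ((nonZeroDivisors P).map (Algebra.TensorProduct.includeRight (R := k) (A := K)))
      (K ⊗[k] F) inferInstance
  let e : ↥(IntermediateField.adjoin k (Set.range x)) ⊗[k] K ≃ₐ[k] K ⊗[k] F :=
    (Algebra.TensorProduct.congr hx.aevalEquivField.symm AlgEquiv.refl).trans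
      (Algebra.TensorProduct.comm k F K)
  exact isReduced_of_injective e.toRingHom e.injective

theorem exists_minimalPrime_of_equiv {A A' : Type u} [CommRing A] [CommRing A'] (e : A ≃+* A')
    (q : Ideal A') [q.IsPrime] (hq : q ∈ minimalPrimes A') :
    ∃ (q' : Ideal A) (_ : q'.IsPrime), q' ∈ minimalPrimes A ∧
      Module.length (Localization.AtPrime q') (Localization.AtPrime q') =
        Module.length (Localization.AtPrime q) (Localization.AtPrime q) := by
  refine ⟨q.comap e.toRingHom, inferInstance, ⟨⟨inferInstance, bot_le⟩, fun p hp hle x hx => ?_⟩, ?_⟩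
  · haveI := hp.1
    have h1 : q ≤ p.comap e.symm.toRingHom := hq.2 ⟨inferInstance, bot_le⟩ fun y hy => by
      have h0 : e (e.symm y) ∈ q := hle hy
      rwa [e.apply_symm_apply] at h0
    have h2 : e.symm (e x) ∈ p := h1 hx
    rwa [e.symm_apply_apply] at h2
  · refine length_self_eq_of_equiv (IsLocalization.ringEquivOfRingEquiv (M := (q.comap e.toRingHom).primeCompl)
      (T := q.primeCompl) _ _ e ?_)
    ext x
    simp only [Submonoid.mem_map]
    constructor
    · rintro ⟨y, hy, rfl⟩
      exact hy
    · intro hx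
      exact ⟨e.symm x, fun h => hx (by
        have h0 : e (e.symm x) ∈ q := h
        rwa [e.apply_symm_apply] at h0), e.apply_symm_apply x⟩

/-- The case of a separable-then-purely-inseparable tower over a field `F` with reduced `F ⊗ K`. -/
theorem length_localization_tensor_dvd (k F Ls L K : Type u) [Field k] [Field F] [Field Ls] [Field L]
    [Field K] [Algebra k F] [Algebra k Ls] [Algebra k L] [Algebra k K] [Algebra F Ls] [Algebra Ls L]
    [IsScalarTower k F Ls] [IsScalarTower k Ls L] [IsReduced (F ⊗[k] K)]
    [Module.Finite F Ls] [Algebra.IsSeparable F Ls] [Module.Finite Ls L] [IsPurelyInseparable Ls L]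
    (q : Ideal (K ⊗[k] L)) [q.IsPrime] (hq : q ∈ minimalPrimes (K ⊗[k] L)) :
    Module.length (Localization.AtPrime q) (Localization.AtPrime q) ≠ ⊤ ∧
      (Module.length (Localization.AtPrime q) (Localization.AtPrime q)).toNat ∣
        Module.finrank Ls L := by
  let B := F ⊗[k] K
  let D := Ls ⊗[F] B
  letI : Algebra B D := Algebra.TensorProduct.rightAlgebra
  let e : L ⊗[Ls] D ≃+* K ⊗[k] L :=
    ((Algebra.TensorProduct.congr (AlgEquiv.refl (R := Ls) (A₁ := L))
        (Algebra.TensorProduct.cancelBaseChange k F Ls Ls K)).toRingEquiv.trans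
      (Algebra.TensorProduct.cancelBaseChange k Ls Ls L K).toRingEquiv).trans
      (Algebra.TensorProduct.comm k L K).toRingEquiv
  obtain ⟨q', _, hq', heq⟩ := exists_minimalPrime_of_equiv (A := L ⊗[Ls] D) e q hq
  let eB : B ⊗[F] Ls ≃ₐ[B] D :=
    AlgEquiv.ofRingEquiv (f := (Algebra.TensorProduct.comm F B Ls).toRingEquiv)
      fun b => by simp [RingHom.algebraMap_toAlgebra]
  haveI : Algebra.FormallyUnramified F Ls := .of_isSeparable F Ls
  haveI : Algebra.FormallyUnramified B D := Algebra.FormallyUnramified.of_equiv eB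
  haveI : Module.Finite B D := Module.Finite.equiv eB.toLinearEquiv
  haveI : Module.Flat B D := Module.Flat.of_linearEquiv eB.symm.toLinearEquiv
  haveI : Algebra.EssFiniteType B D := inferInstance
  have hqD := comap_includeRight_mem_minimalPrimes Ls q' hq'
  have hB := comap_mem_minimalPrimes_of_flat (R := B) _ hqD
  rw [← heq]
  exact length_localization_dvd Ls q' (isField_localization_of_unramified _ hB)

/-- The length of `K ⊗ L` at a minimal prime is a power of the exponential characteristic. -/
theorem exists_length_localization_eq_pow (k K L : Type u) [Field k] [Field K] [Field L]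
    [Algebra k K] [Algebra k L] (hL : (⊤ : IntermediateField k L).FG) (p : ℕ) [ExpChar k p]
    (q : Ideal (K ⊗[k] L)) [q.IsPrime] (hq : q ∈ minimalPrimes (K ⊗[k] L)) :
    ∃ n : ℕ, Module.length (Localization.AtPrime q) (Localization.AtPrime q) = (p ^ n : ℕ) := by
  obtain ⟨s, hs⟩ := exists_isTranscendenceBasis' k L
  obtain ⟨x, hx⟩ := hs
  let F := IntermediateField.adjoin k (Set.range x)
  haveI : IsReduced (↥F ⊗[k] K) := isReduced_tensor_adjoin_algebraicIndependent k K hx.1
  haveI : Algebra.IsAlgebraic ↥F L := hx.isAlgebraic_field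
  haveI hT : Algebra.EssFiniteType k ↥(⊤ : IntermediateField k L) :=
    IntermediateField.essFiniteType_iff.mpr hL
  haveI : Algebra.EssFiniteType k L :=
    Algebra.EssFiniteType.of_surjective (IntermediateField.topEquiv (F := k) (E := L)).toAlgHom
      (IntermediateField.topEquiv (F := k) (E := L)).surjective
  haveI : Algebra.EssFiniteType ↥F L := Algebra.EssFiniteType.of_comp k ↥F L
  haveI : Module.Finite ↥F L := Algebra.finite_of_essFiniteType_of_isAlgebraic
  haveI : ExpChar ↥F p := expChar_of_injective_algebraMap (algebraMap k ↥F).injective p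
  let Ls := separableClosure ↥F L
  haveI : IsPurelyInseparable ↥Ls L := separableClosure.isPurelyInseparable ↥F L
  haveI : ExpChar ↥Ls p := expChar_of_injective_algebraMap (algebraMap ↥F ↥Ls).injective p
  haveI : IsScalarTower k ↥Ls L := .of_algebraMap_eq fun _ => rfl
  obtain ⟨a, ha⟩ := IsPurelyInseparable.finrank_eq_pow ↥Ls L p
  obtain ⟨h1, h2⟩ := length_localization_tensor_dvd k ↥F ↥Ls L K q hq
  rw [ha] at h2
  rcases ‹ExpChar k p› with _ | ⟨hp⟩
  · refine ⟨0, ?_⟩
    rw [one_pow, Nat.dvd_one] at h2
    rw [pow_zero, ← h2, ENat.coe_toNat h1]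
  · obtain ⟨i, -, hi⟩ := (Nat.dvd_prime_pow hp).1 h2
    exact ⟨i, by rw [← hi, ENat.coe_toNat h1]⟩

end Groth.Agent.RelCyc15
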